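import Mathlib
import Cfsg.Agent.Lib.FastPerm
import Cfsg.Agent.Prune
set_option linter.all false
prune_inst 0x7f00000000000000000000000000000000000000000000000000000000000000000000000000000000000000000000000000000000000000000000000000000000000000000000000000000000000000003fffffffffffffffffffffffffffbeffbdffffffff
open scoped Cfsg.Agent.FastGrp

/-!
# Facts about the alternating group of degree 5
-/

set_option autoImplicit false

namespace Cfsg.Agent.H308.AltFive

open Equiv Subgroup

theorem invol_conj' : ∀ s : Perm (Fin 5), (Perm.sign s = 1 ∧ s * s = 1 ∧ s ≠ 1) →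
    ∀ t : Perm (Fin 5), (Perm.sign t = 1 ∧ t * t = 1 ∧ t ≠ 1) →
    ∃ g : Perm (Fin 5), Perm.sign g = 1 ∧ g * s * g⁻¹ = t := by
  (set_option synthInstance.maxSize 9000 in open scoped Cfsg.Agent.Lib.FastPerm in decide +kernel)

theorem five_prod' : ∀ s : Perm (Fin 5), (Perm.sign s = 1 ∧ s * s = 1 ∧ s ≠ 1) →
    ∃ g : Perm (Fin 5), Perm.sign g = 1 ∧ (s * (g * s * g⁻¹)) ^ 5 = 1 ∧ s * (g * s * g⁻¹) ≠ 1 := by
  (set_option synthInstance.maxSize 9000 in open scoped Cfsg.Agent.Lib.FastPerm in decide +kernel)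

theorem mem_iff {s : Perm (Fin 5)} : s ∈ alternatingGroup (Fin 5) ↔ Perm.sign s = 1 :=
  Perm.mem_alternatingGroup

/-- all involutions of `A₅` are conjugate -/
theorem invol_conj (s t : alternatingGroup (Fin 5)) (hs : s * s = 1) (hs1 : s ≠ 1)
    (ht : t * t = 1) (ht1 : t ≠ 1) : ∃ g, g * s * g⁻¹ = t := by
  obtain ⟨g, hg, hgs⟩ := invol_conj' s ⟨mem_iff.1 s.2, congrArg Subtype.val hs,
    fun h => hs1 (Subtype.ext h)⟩ t ⟨mem_iff.1 t.2, congrArg Subtype.val ht,
    fun h => ht1 (Subtype.ext h)⟩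
  exact ⟨⟨g, mem_iff.2 hg⟩, Subtype.ext hgs⟩

/-- every involution of `A₅` has a conjugate such that the product has order 5 -/
theorem five_prod (s : alternatingGroup (Fin 5)) (hs : s * s = 1) (hs1 : s ≠ 1) :
    ∃ g, (s * (g * s * g⁻¹)) ^ 5 = 1 ∧ s * (g * s * g⁻¹) ≠ 1 := by
  obtain ⟨g, hg, h1, h2⟩ := five_prod' s ⟨mem_iff.1 s.2, congrArg Subtype.val hs,
    fun h => hs1 (Subtype.ext h)⟩
  exact ⟨⟨g, mem_iff.2 hg⟩, Subtype.ext h1, fun h => h2 (congrArg Subtype.val h)⟩

theorem card_A5 : Nat.card (alternatingGroup (Fin 5)) = 60 := by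
  rw [nat_card_alternatingGroup, Nat.card_eq_fintype_card]; decide

/-- `A₅` has no proper subgroup of index less than 5. -/
theorem eq_top_of_index {H : Subgroup (alternatingGroup (Fin 5))} (h : H.index < 5) : H = ⊤ := by
  have hs : IsSimpleGroup (alternatingGroup (Fin 5)) := inferInstance
  rcases (inferInstance : H.normalCore.Normal).eq_bot_or_eq_top with h1 | h1
  · exfalso
    have h0 : H.index ≠ 0 := H.index_ne_zero_of_finite
    have h2 : Nat.card (alternatingGroup (Fin 5)) ∣ (H.index).factorial := by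
      have h3 : H.normalCore.index ∣ (H.index).factorial := by
        rw [H.normalCore_eq_ker]
        have h4 := (MulAction.toPermHom (alternatingGroup (Fin 5))
          (alternatingGroup (Fin 5) ⧸ H)).range.card_subgroup_dvd_card
        rw [← Subgroup.index_ker, Nat.card_perm] at h4
        exact h4
      rwa [h1, Subgroup.index_bot] at h3
    rw [card_A5] at h2
    have h5 : H.index = 1 ∨ H.index = 2 ∨ H.index = 3 ∨ H.index = 4 := by omega
    rcases h5 with h5 | h5 | h5 | h5 <;> rw [h5] at h2 <;> revert h2 <;> decide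
  · have h2 := H.normalCore_le
    rw [h1] at h2
    exact top_le_iff.1 h2

end Cfsg.Agent.H308.AltFive
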